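import Groth.Agent.SMT.GradedGlue
import Groth.Agent.N2Field.Basic
import Mathlib.RingTheory.Polynomial.IsIntegral
import Mathlib.RingTheory.FiniteLength
import Mathlib.RingTheory.HopkinsLevitzki
import Mathlib.RingTheory.KrullDimension.Zero
import Mathlib.Algebra.Polynomial.Laurent
import Mathlib.RingTheory.Support

/-!
The conductor of the normalisation of a graded domain is homogeneous; normality of the punctured
spectrum of a graded domain and finite length of the normalisation quotient.
-/

set_option autoImplicit false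
set_option linter.style.haveILetI false
set_option backward.isDefEq.respectTransparency false
set_option backward.isDefEq.respectTransparency.types false

noncomputable section

universe u v w

namespace Groth.Agent.GrNormal

open DirectSum Polynomial

attribute [local instance] Polynomial.algebra

variable {R : Type v} [CommRing R] {G : Type u} [CommRing G] [Algebra R G]
  (𝒢 : ℕ → Submodule R G) [GradedAlgebra 𝒢]

/-- The degree map on the direct sum. -/
def degHom : (⨁ i, 𝒢 i) →+* G[X] :=
  DirectSum.toSemiring (fun i => (Polynomial.monomial i).toAddMonoidHom.comp (𝒢 i).subtype.toAddMonoidHom)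
    (by simp) (fun ai aj => by simp [Polynomial.monomial_mul_monomial])

lemma degHom_of (i : ℕ) (x : 𝒢 i) : degHom 𝒢 (DirectSum.of _ i x) = Polynomial.monomial i (x : G) :=
  by
    unfold degHom
    rw [DirectSum.toSemiring_of]
    rfl

/-- The degree map `g ↦ ∑ gᵢ Xⁱ`. -/
def degMap : G →+* G[X] :=
  (degHom 𝒢).comp (DirectSum.decomposeRingEquiv 𝒢).toRingHom

lemma degMap_of_mem {i : ℕ} {g : G} (hg : g ∈ 𝒢 i) : degMap 𝒢 g = Polynomial.monomial i g := by
  show degHom 𝒢 (DirectSum.decompose 𝒢 g) = _
  rw [DirectSum.decompose_of_mem 𝒢 hg, degHom_of]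

lemma coeff_degMap (g : G) (j : ℕ) : (degMap 𝒢 g).coeff j = (decompose 𝒢 g j : G) := by
  induction g using DirectSum.Decomposition.inductionOn 𝒢 with
  | zero => simp
  | homogeneous m =>
    rename_i i
    rw [degMap_of_mem 𝒢 m.2, Polynomial.coeff_monomial]
    split_ifs with h
    · subst h; rw [DirectSum.decompose_of_mem_same 𝒢 m.2]
    · rw [DirectSum.decompose_of_mem_ne 𝒢 m.2 h]
  | add m m' hm hm' => rw [map_add, Polynomial.coeff_add, hm, hm', DirectSum.decompose_add]; rfl

lemma degMap_injective : Function.Injective (degMap 𝒢) := by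
  intro a b h
  apply (DirectSum.decompose 𝒢).injective
  refine DFinsupp.ext fun j => Subtype.ext ?_
  rw [← coeff_degMap, ← coeff_degMap, h]

/-- Applying the degree map to coefficients and sending the variable to `T⁻¹`. -/
def untwist : G[X] →+* LaurentPolynomial G :=
  Polynomial.eval₂RingHom (Polynomial.toLaurent.comp (degMap 𝒢)) (LaurentPolynomial.T (-1))

lemma untwist_degMap (g : G) : untwist 𝒢 (degMap 𝒢 g) = LaurentPolynomial.C g := by
  induction g using DirectSum.Decomposition.inductionOn 𝒢 with
  | zero => simp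
  | homogeneous m =>
    rename_i i
    rw [degMap_of_mem 𝒢 m.2, untwist, Polynomial.coe_eval₂RingHom, Polynomial.eval₂_monomial,
      RingHom.comp_apply, degMap_of_mem 𝒢 m.2, Polynomial.toLaurent_C_mul_T, LaurentPolynomial.T_pow,
      mul_assoc, ← LaurentPolynomial.T_add]
    simp
  | add m m' hm hm' => rw [map_add, map_add, hm, hm', map_add]

section Conductor

variable (L : Type w) [Field L] [Algebra G L] [IsFractionRing G L]

/-- `a` lies in the conductor: it multiplies all integral elements into the image of `G`. -/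
def Cond (a : G) : Prop := ∀ c : L, IsIntegral G c → ∃ g : G, algebraMap G L g = algebraMap G L a * c

variable [IsDomain G]

lemma exists_extension {F : Type*} [Field F] (φ : G →+* F) (hφ : Function.Injective φ) :
    ∃ α : L →+* F, α.comp (algebraMap G L) = φ := by
  refine ⟨IsFractionRing.lift hφ, RingHom.ext fun g => ?_⟩
  rw [RingHom.comp_apply, IsFractionRing.lift_algebraMap hφ g]

/-- The conductor is homogeneous, computed in a fraction field of `L[X]`. -/
lemma cond_decompose_aux (F : Type*) [Field F] [Algebra L[X] F] [IsFractionRing L[X] F]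
    {a : G} (ha : Cond L a) (i : ℕ) : Cond L (decompose 𝒢 a i : G) := by
  intro c hc
  obtain ⟨x, y, hy, rfl⟩ := IsFractionRing.div_surjective G c
  have hinj : Function.Injective (algebraMap G L) := IsFractionRing.injective G L
  let ι : G[X] →+* F :=
    (algebraMap L[X] F).comp (Polynomial.mapRingHom (algebraMap G L))
  have hι : Function.Injective ι :=
    (IsFractionRing.injective L[X] F).comp (Polynomial.map_injective _ hinj)
  have hinjd : Function.Injective (ι.comp (degMap 𝒢)) := fun u v h => degMap_injective 𝒢 (hι h)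
  obtain ⟨α, hα⟩ : ∃ α : L →+* F, α.comp (algebraMap G L) = ι.comp (degMap 𝒢) :=
    exists_extension L (ι.comp (degMap 𝒢)) hinjd
  obtain ⟨p, hp, hp0⟩ := hc
  set z := algebraMap G L x / algebraMap G L y
  have h1 : Polynomial.eval₂ ι (α z) (p.map (degMap 𝒢)) = 0 := by
    rw [Polynomial.eval₂_map, ← hα, ← Polynomial.hom_eval₂, hp0, map_zero]
  obtain ⟨P₀, hP₀⟩ : ∃ P₀, algebraMap L[X] F P₀ = α z :=
    IsIntegrallyClosed.algebraMap_eq_of_integral
      ⟨(p.map (degMap 𝒢)).map (Polynomial.mapRingHom (algebraMap G L)), (hp.map _).map _,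
        by rw [Polynomial.eval₂_map]; exact h1⟩
  have hP₀int : IsIntegral G[X] P₀ := by
    refine ⟨p.map (degMap 𝒢), hp.map _, ?_⟩
    apply IsFractionRing.injective L[X] F
    rw [map_zero, Polynomial.hom_eval₂, hP₀]
    exact h1
  have hcoeff : ∀ n, ∃ g : G, algebraMap G L g = algebraMap G L a * P₀.coeff n :=
    fun n => ha _ (Polynomial.isIntegral_iff_isIntegral_coeff.1 hP₀int n)
  obtain ⟨P, hP⟩ : Polynomial.C (algebraMap G L a) * P₀ ∈ Polynomial.lifts (algebraMap G L) := by
    rw [Polynomial.lifts_iff_coeff_lifts]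
    intro n
    rw [Polynomial.coeff_C_mul]
    exact hcoeff n
  have hy0 : algebraMap G L y ≠ 0 := IsFractionRing.to_map_ne_zero_of_mem_nonZeroDivisors hy
  have hxy : P₀ * (degMap 𝒢 y).map (algebraMap G L) = (degMap 𝒢 x).map (algebraMap G L) := by
    apply IsFractionRing.injective L[X] F
    rw [map_mul, hP₀]
    show α z * ι (degMap 𝒢 y) = ι (degMap 𝒢 x)
    rw [← RingHom.comp_apply, ← hα, ← RingHom.comp_apply, ← hα, RingHom.comp_apply, RingHom.comp_apply,
      ← map_mul, div_mul_cancel₀ _ hy0]
  have hkey : Polynomial.C a * degMap 𝒢 x = P * degMap 𝒢 y := by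
    apply Polynomial.map_injective _ hinj
    rw [Polynomial.map_mul, Polynomial.map_mul, Polynomial.map_C, ← hxy, ← mul_assoc]
    exact congrArg (· * _) hP.symm
  have h2 := congrArg (untwist 𝒢) hkey
  rw [map_mul, map_mul, untwist_degMap, untwist_degMap] at h2
  rw [show untwist 𝒢 (Polynomial.C a) = Polynomial.toLaurent (degMap 𝒢 a) from Polynomial.eval₂_C _ _] at h2
  obtain ⟨n, Q, hQ⟩ := LaurentPolynomial.exists_T_pow (untwist 𝒢 P)
  have h3 : degMap 𝒢 a * Polynomial.X ^ n * Polynomial.C x = Q * Polynomial.C y := by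
    apply Polynomial.toLaurent_injective
    rw [map_mul, map_mul, map_mul, Polynomial.toLaurent_X_pow, Polynomial.toLaurent_C, Polynomial.toLaurent_C, hQ,
      mul_right_comm, h2, mul_right_comm]
  have h4 := congrArg (fun q => Polynomial.coeff q (i + n)) h3
  simp only [Polynomial.coeff_mul_C, Polynomial.coeff_mul_X_pow, coeff_degMap] at h4
  refine ⟨Q.coeff (i + n), ?_⟩
  show _ = _ * (algebraMap G L x / algebraMap G L y)
  rw [← mul_div_assoc, eq_div_iff hy0, ← map_mul, ← map_mul, h4]

/-- The conductor is homogeneous. -/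
theorem cond_decompose {a : G} (ha : Cond L a) (i : ℕ) : Cond L (decompose 𝒢 a i : G) :=
  cond_decompose_aux 𝒢 L (FractionRing L[X]) ha i

/-- The quotient of the normalisation by the ring. -/
abbrev NQ : Type w := ↥(integralClosure G L) ⧸ LinearMap.range (Algebra.linearMap G ↥(integralClosure G L))

lemma mem_annihilator_iff {a : G} : a ∈ Module.annihilator G (NQ (G := G) L) ↔ Cond L a := by
  rw [Module.mem_annihilator]
  constructor
  · intro h c hc
    obtain ⟨g, hg⟩ := (Submodule.Quotient.mk_eq_zero _).1
      ((Submodule.Quotient.mk_smul _ a (⟨c, hc⟩ : ↥(integralClosure G L))).trans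
        (h (Submodule.Quotient.mk ⟨c, hc⟩)))
    refine ⟨g, ?_⟩
    have := congrArg Subtype.val hg
    simpa [Algebra.smul_def] using this
  · intro h m
    obtain ⟨c, rfl⟩ := Submodule.Quotient.mk_surjective _ m
    rw [← Submodule.Quotient.mk_smul, Submodule.Quotient.mk_eq_zero]
    obtain ⟨g, hg⟩ := h c c.2
    exact ⟨g, Subtype.ext (by simpa [Algebra.smul_def] using hg)⟩

theorem annihilator_isHomogeneous : (Module.annihilator G (NQ (G := G) L)).IsHomogeneous 𝒢 :=
  fun i _ ha => (mem_annihilator_iff L).2 (cond_decompose 𝒢 L ((mem_annihilator_iff L).1 ha) i)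

omit [IsDomain G] in
/-- A module of finite length has Artinian quotient by its annihilator. -/
lemma isArtinianRing_quot_annihilator {M : Type*} [AddCommGroup M] [Module G M] (h : IsFiniteLength G M) :
    IsArtinianRing (G ⧸ Module.annihilator G M) := by
  obtain ⟨h₁, h₂⟩ := isFiniteLength_iff_isNoetherian_isArtinian.1 h
  obtain ⟨n, f, hf⟩ := Module.Finite.exists_fin' G M
  let g : G →ₗ[G] (Fin n → M) := LinearMap.pi fun i => LinearMap.toSpanSingleton G M (f (Pi.single i 1))
  have hker : LinearMap.ker g = Module.annihilator G M := by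
    ext a
    rw [LinearMap.mem_ker, Module.mem_annihilator]
    constructor
    · intro ha m
      obtain ⟨v, rfl⟩ := hf m
      rw [pi_eq_sum_univ' v, map_sum, Finset.smul_sum]
      refine Finset.sum_eq_zero fun i _ => ?_
      rw [map_smul, smul_comm, show a • f (Pi.single i 1) = 0 from congrFun ha i, smul_zero]
    · intro ha
      funext i
      exact ha _
  haveI : IsArtinian G (G ⧸ Module.annihilator G M) := by
    rw [← hker]
    exact isArtinian_of_injective ((LinearMap.ker g).liftQ g le_rfl)
      (LinearMap.ker_eq_bot.1 (Submodule.ker_liftQ_eq_bot _ _ _ le_rfl))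
  exact isArtinian_of_tower G ‹IsArtinian G (G ⧸ Module.annihilator G M)›

lemma not_le_annihilator_of_normal [Module.Finite G (NQ (G := G) L)] (p : Ideal G) [p.IsPrime]
    (hp : IsIntegrallyClosed (Localization.AtPrime p)) :
    ¬ Module.annihilator G (NQ (G := G) L) ≤ p := by
  intro hle
  have hsupp : (⟨p, inferInstance⟩ : PrimeSpectrum G) ∈ Module.support G (NQ (G := G) L) := by
    rw [Module.support_eq_zeroLocus]
    exact hle
  obtain ⟨m, hm⟩ := Module.mem_support_iff'.1 hsupp
  obtain ⟨c, rfl⟩ := Submodule.Quotient.mk_surjective _ m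
  have hu : ∀ s : p.primeCompl, IsUnit (algebraMap G L s) := fun s =>
    isUnit_iff_ne_zero.2 ((map_ne_zero_iff _ (IsFractionRing.injective G L)).2 fun h => s.2 (h ▸ p.zero_mem))
  letI : Algebra (Localization.AtPrime p) L := (IsLocalization.lift hu).toAlgebra
  haveI : IsScalarTower G (Localization.AtPrime p) L :=
    IsScalarTower.of_algebraMap_eq fun g => (IsLocalization.lift_eq hu g).symm
  haveI : IsFractionRing (Localization.AtPrime p) L :=
    IsFractionRing.isFractionRing_of_isDomain_of_isLocalization p.primeCompl _ _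
  obtain ⟨q, hq⟩ := (isIntegrallyClosed_iff L).1 hp (x := (c : L)) (IsIntegral.tower_top c.2)
  obtain ⟨g, s, rfl⟩ := IsLocalization.exists_mk'_eq p.primeCompl q
  refine hm s s.2 ?_
  rw [← Submodule.Quotient.mk_smul, Submodule.Quotient.mk_eq_zero]
  refine ⟨g, Subtype.ext ?_⟩
  show algebraMap G L g = (s : G) • (c : L)
  rw [Algebra.smul_def, ← hq, IsScalarTower.algebraMap_apply G (Localization.AtPrime p) L,
    IsScalarTower.algebraMap_apply G (Localization.AtPrime p) L (s : G), ← map_mul, IsLocalization.mk'_spec']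

lemma isIntegrallyClosed_of_not_le (p : Ideal G) [p.IsPrime]
    (hp : ¬ Module.annihilator G (NQ (G := G) L) ≤ p) : IsIntegrallyClosed (Localization.AtPrime p) := by
  obtain ⟨s, hs, hsp⟩ := SetLike.not_le_iff_exists.1 hp
  rw [mem_annihilator_iff] at hs
  have hu : ∀ s : p.primeCompl, IsUnit (algebraMap G L s) := fun s =>
    isUnit_iff_ne_zero.2 ((map_ne_zero_iff _ (IsFractionRing.injective G L)).2 fun h => s.2 (h ▸ p.zero_mem))
  letI : Algebra (Localization.AtPrime p) L := (IsLocalization.lift hu).toAlgebra
  haveI : IsScalarTower G (Localization.AtPrime p) L :=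
    IsScalarTower.of_algebraMap_eq fun g => (IsLocalization.lift_eq hu g).symm
  haveI : IsFractionRing (Localization.AtPrime p) L :=
    IsFractionRing.isFractionRing_of_isDomain_of_isLocalization p.primeCompl _ _
  refine (isIntegrallyClosed_iff L).2 fun {x} hx => ?_
  obtain ⟨t, ht⟩ := IsIntegral.exists_multiple_integral_of_isLocalization p.primeCompl x hx
  obtain ⟨g, hg⟩ := hs _ ht
  refine ⟨IsLocalization.mk' (Localization.AtPrime p) g (⟨s, hsp⟩ * t), ?_⟩
  refine mul_left_cancel₀ (hu (⟨s, hsp⟩ * t)).ne_zero ?_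
  rw [IsScalarTower.algebraMap_apply G (Localization.AtPrime p) L, ← map_mul, IsLocalization.mk'_spec',
    ← IsScalarTower.algebraMap_apply, ← IsScalarTower.algebraMap_apply, hg, Submonoid.coe_mul, map_mul,
    Submonoid.smul_def, Algebra.smul_def, mul_assoc]

end Conductor

/-- Normality of the punctured spectrum is finite length of the normalisation quotient. -/
theorem normal_iff_finiteLength (k : Type u) [Field k] (H : Type u) [CommRing H] [IsDomain H] [Algebra k H]
    [IsNoetherianRing H] (ℋ : ℕ → Submodule k H) [GradedAlgebra ℋ]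
    (h0 : ∀ x ∈ ℋ 0, x ∈ Set.range (algebraMap k H)) (L : Type u) [Field L] [Algebra H L] [IsFractionRing H L] :
    (∀ (p : Ideal H) [p.IsPrime], ¬ (HomogeneousIdeal.irrelevant ℋ).toIdeal ≤ p →
      IsIntegrallyClosed (Localization.AtPrime p)) ↔ IsFiniteLength H (NQ (G := H) L) := by
  have h0' : ∀ a ∈ ℋ 0, ∃ c : k, algebraMap k H c = a := h0
  haveI := SMT.finiteType_of_graded ℋ h0'
  haveI hm0 := SMT.isMaximal_irrelevant ℋ h0'
  haveI : Module.Finite H ↥(integralClosure H L) := N2Field.finite_integralClosure k H L L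
  set J := Module.annihilator H (NQ (G := H) L)
  constructor
  · intro h
    haveI : Ring.KrullDimLE 0 (H ⧸ J) := Ring.krullDimLE_zero_iff.2 fun P hP => by
      haveI := hP
      have hle : J ≤ P.comap (Ideal.Quotient.mk J) := fun a ha => by
        rw [Ideal.mem_comap, Ideal.Quotient.eq_zero_iff_mem.2 ha]; exact zero_mem _
      have hirr : (HomogeneousIdeal.irrelevant ℋ).toIdeal ≤ P.comap (Ideal.Quotient.mk J) := by
        by_contra hn
        exact not_le_annihilator_of_normal L _ (h _ hn) hle
      haveI : (P.comap (Ideal.Quotient.mk J)).IsMaximal :=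
        hm0.eq_of_le (Ideal.IsPrime.ne_top inferInstance) hirr ▸ hm0
      rw [← Ideal.map_comap_of_surjective _ Ideal.Quotient.mk_surjective P]
      exact Ideal.IsMaximal.map_of_surjective_of_ker_le Ideal.Quotient.mk_surjective (Ideal.mk_ker.trans_le hle)
    haveI : IsArtinianRing (H ⧸ J) := isArtinianRing_iff_isNoetherianRing_krullDimLE_zero.2 ⟨inferInstance, ‹_›⟩
    haveI : IsArtinian H (H ⧸ J) := isArtinian_of_surjective_algebraMap (R := H ⧸ J) (S := H) (M := H ⧸ J) Ideal.Quotient.mk_surjective
    obtain ⟨n, f, hf⟩ := Module.Finite.exists_fin' H (NQ (G := H) L)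
    let gen : Fin n → (H ⧸ J) →ₗ[H] NQ (G := H) L := fun i =>
      Submodule.liftQ J (LinearMap.toSpanSingleton H _ (f (Pi.single i 1)))
        (fun a ha => Module.mem_annihilator.1 ha _)
    let g : (Fin n → H ⧸ J) →ₗ[H] NQ (G := H) L := ∑ i, (gen i).comp (LinearMap.proj i)
    have hg : Function.Surjective g := fun m => by
      obtain ⟨v, rfl⟩ := hf m
      refine ⟨fun i => Submodule.Quotient.mk (v i), ?_⟩
      conv_rhs => rw [pi_eq_sum_univ' v, map_sum]
      simp only [g, LinearMap.sum_apply]
      refine Finset.sum_congr rfl fun i _ => ?_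
      simp [gen]
      rfl
    haveI := isArtinian_of_surjective _ g hg
    exact isFiniteLength_iff_isNoetherian_isArtinian.2 ⟨inferInstance, inferInstance⟩
  · intro h p _ hp
    refine isIntegrallyClosed_of_not_le L p fun hle => hp ?_
    haveI := isArtinianRing_quot_annihilator h
    set q := (Ideal.homogeneousCore ℋ p).toIdeal
    haveI : q.IsPrime := Ideal.IsPrime.homogeneousCore ‹p.IsPrime›
    have hJq : J ≤ q := by
      show Module.annihilator H (NQ (G := H) L) ≤ q
      rw [← (annihilator_isHomogeneous ℋ L).toIdeal_homogeneousCore_eq_self]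
      exact Ideal.homogeneousCore_mono ℋ hle
    haveI : (q.map (Ideal.Quotient.mk J)).IsPrime :=
      Ideal.map_isPrime_of_surjective Ideal.Quotient.mk_surjective (Ideal.mk_ker.trans_le hJq)
    haveI hqm : q.IsMaximal := by
      have hc : (q.map (Ideal.Quotient.mk J)).comap (Ideal.Quotient.mk J) = q := by
        rw [Ideal.comap_map_of_surjective _ Ideal.Quotient.mk_surjective,
          ← RingHom.ker_eq_comap_bot, Ideal.mk_ker, sup_eq_left.2 hJq]
      rw [← hc]
      haveI := IsArtinianRing.isMaximal_of_isPrime (q.map (Ideal.Quotient.mk J))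
      exact Ideal.comap_isMaximal_of_surjective _ Ideal.Quotient.mk_surjective
    rw [← hqm.eq_of_le hm0.ne_top (SMT.le_irrelevant ℋ h0' (Ideal.homogeneousCore ℋ p).isHomogeneous
      hqm.ne_top)]
    exact Ideal.toIdeal_homogeneousCore_le ℋ p

end Groth.Agent.GrNormal
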