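import Groth.Agent.GrNormal.Basic
import Groth.Agent.LocH.Sequence
import Groth.Agent.LocH.Depth
import Groth.Agent.LocH.DepthMisc
import Groth.Agent.LocH.ChangeRings
import Groth.Agent.ReflLoc.Normal
import Groth.Agent.GLinFree.Dim

/-!
The first local cohomology of a graded domain with finite-length normalisation quotient.
-/

set_option autoImplicit false
set_option linter.style.haveILetI false
set_option backward.isDefEq.respectTransparency false
set_option backward.isDefEq.respectTransparency.types false

noncomputable section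

universe u

namespace Groth.Agent.GrNormal

open CategoryTheory

/-- A module killed by a power of `I` is the degree zero local cohomology. -/
def torsionSubEquiv {G : Type u} [CommRing G] (I : Ideal G) (M : Type u) [AddCommGroup M] [Module G M]
    {n : ℕ} (h : I ^ n ≤ Module.annihilator G M) : M ≃ₗ[G] LocCoh.H I 0 M :=
  (LinearEquiv.ofBijective (LinearMap.codRestrict (DRing.torsionSub I M) LinearMap.id
      fun m => ⟨n, fun a ha => Module.mem_annihilator.1 (h ha) m⟩)
    ⟨fun _ _ e => congrArg Subtype.val e, fun x => ⟨x.1, Subtype.ext rfl⟩⟩).trans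
    ((LocH.zeroIso I).app (ModuleCat.of G M)).toLinearEquiv.symm

variable (k : Type u) [Field k] (G : Type u) [CommRing G] [IsDomain G] [Algebra k G]
  [IsNoetherianRing G] (𝒢 : ℕ → Submodule k G) [GradedAlgebra 𝒢]
  (h0 : ∀ x ∈ 𝒢 0, x ∈ Set.range (algebraMap k G))
  (L : Type u) [Field L] [Algebra G L] [IsFractionRing G L]

include h0 in
theorem subsingleton_H_normalization (hdim : 2 ≤ ringKrullDim G)
    [Module.Finite G ↥(integralClosure G L)] {i : ℕ} (hi : i < 2) :
    Subsingleton (LocCoh.H (HomogeneousIdeal.irrelevant 𝒢).toIdeal i ↥(integralClosure G L)) := by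
  haveI := SMT.finiteType_of_graded 𝒢 h0
  haveI hm0 := SMT.isMaximal_irrelevant 𝒢 h0
  let B := ↥(integralClosure G L)
  letI : Algebra k B := ((algebraMap G B).comp (algebraMap k G)).toAlgebra
  haveI : IsScalarTower k G B := IsScalarTower.of_algebraMap_eq fun _ => rfl
  haveI : Algebra.FiniteType k B := Algebra.FiniteType.trans (S := G) inferInstance inferInstance
  haveI : IsNoetherianRing B := Algebra.FiniteType.isNoetherianRing k B
  haveI : Algebra.IsIntegral G B := Algebra.IsIntegral.of_finite _ _
  haveI : IsFractionRing B L :=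
    integralClosure.isFractionRing_of_finite_extension (A := G) L L
  haveI : IsIntegrallyClosed B := by
    rw [isIntegrallyClosed_iff L]
    intro x hx
    exact ⟨⟨x, isIntegral_trans x hx⟩, rfl⟩
  have hinj : Function.Injective (algebraMap G B) := fun a b e =>
    IsFractionRing.injective G L (congrArg Subtype.val e)
  have hdimB : ringKrullDim B = ringKrullDim G := by
    obtain ⟨s, g, hgi, hgf⟩ := exists_finite_inj_algHom_of_fg k G
    rw [Unibranch.ringKrullDim_eq_of_finite_inj g hgi hgf,
      Unibranch.ringKrullDim_eq_of_finite_inj ((IsScalarTower.toAlgHom k G B).comp g) (hinj.comp hgi)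
        (AlgHom.Finite.comp (RingHom.finite_algebraMap.2 inferInstance) hgf)]
  set I := (HomogeneousIdeal.irrelevant 𝒢).toIdeal
  have hdepth : (2 : ℕ∞) ≤ LocCoh.idealDepth (I.map (algebraMap G B)) B := by
    refine (LocH.le_idealDepth_iff_forall_prime _ _ 2).2 fun Q hQ => ?_
    have hc : Q.asIdeal.comap (algebraMap G B) = I :=
      (hm0.eq_of_le (Ideal.IsPrime.ne_top inferInstance) (Ideal.map_le_iff_le_comap.1 hQ)).symm
    haveI : (Q.asIdeal.comap (algebraMap G B)).IsMaximal := hc ▸ hm0
    haveI : Q.asIdeal.IsMaximal := Ideal.isMaximal_of_isIntegral_of_isMaximal_comap Q.asIdeal ‹_›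
    have hh : 2 ≤ Q.asIdeal.height := by
      have := (GLinFree.height_eq_ringKrullDim (K := k) Q.asIdeal).ge
      rw [hdimB] at this
      exact WithBot.coe_le_coe.1 (hdim.trans this)
    exact ReflLoc.two_le_depth_atPrime Q.asIdeal hh
  have hs := (LocH.le_idealDepth_iff _ _ 2).1 hdepth i hi
  obtain ⟨φ, -⟩ := LocH.exists_semilinearEquiv (R := G) (R' := B) (I := I) i B
  exact φ.symm.toEquiv.subsingleton

include h0 in
theorem exists_pow_le_annihilator (hfin : IsFiniteLength G (NQ (G := G) L)) :
    ∃ n, (HomogeneousIdeal.irrelevant 𝒢).toIdeal ^ n ≤ Module.annihilator G (NQ (G := G) L) := by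
  have hm0 := SMT.isMaximal_irrelevant 𝒢 h0
  haveI := isArtinianRing_quot_annihilator hfin
  refine Ideal.exists_pow_le_of_le_radical_of_fg ?_ (IsNoetherian.noetherian _)
  rw [Ideal.radical_eq_sInf]
  refine le_sInf fun p hp => ?_
  haveI := hp.2
  -- the homogeneous core of `p` is maximal
  have hJq : Module.annihilator G (NQ (G := G) L) ≤ (Ideal.homogeneousCore 𝒢 p).toIdeal := by
    rw [← (annihilator_isHomogeneous 𝒢 L).toIdeal_homogeneousCore_eq_self]
    exact Ideal.homogeneousCore_mono 𝒢 hp.1
  haveI := Ideal.IsPrime.homogeneousCore (𝒜 := 𝒢) ‹p.IsPrime›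
  haveI : ((Ideal.homogeneousCore 𝒢 p).toIdeal.map (Ideal.Quotient.mk (Module.annihilator G (NQ (G := G) L)))).IsPrime :=
    Ideal.map_isPrime_of_surjective Ideal.Quotient.mk_surjective (Ideal.mk_ker.trans_le hJq)
  have hqm : (Ideal.homogeneousCore 𝒢 p).toIdeal.IsMaximal := by
    haveI := IsArtinianRing.isMaximal_of_isPrime
      ((Ideal.homogeneousCore 𝒢 p).toIdeal.map (Ideal.Quotient.mk (Module.annihilator G (NQ (G := G) L))))
    have := Ideal.comap_isMaximal_of_surjective (Ideal.Quotient.mk (Module.annihilator G (NQ (G := G) L)))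
      Ideal.Quotient.mk_surjective (K := (Ideal.homogeneousCore 𝒢 p).toIdeal.map (Ideal.Quotient.mk (Module.annihilator G (NQ (G := G) L))))
    rwa [Ideal.comap_map_of_surjective _ Ideal.Quotient.mk_surjective, ← RingHom.ker_eq_comap_bot, Ideal.mk_ker,
      sup_eq_left.2 hJq] at this
  rw [← hqm.eq_of_le hm0.ne_top (SMT.le_irrelevant 𝒢 h0 (Ideal.homogeneousCore 𝒢 p).isHomogeneous hqm.ne_top)]
  exact Ideal.toIdeal_homogeneousCore_le 𝒢 p

include h0 in
theorem nq_equiv_H_one (hdim : 2 ≤ ringKrullDim G) (hfin : IsFiniteLength G (NQ (G := G) L)) :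
    Nonempty (NQ (G := G) L ≃ₗ[G] LocCoh.H (HomogeneousIdeal.irrelevant 𝒢).toIdeal 1 G) := by
  let B := ↥(integralClosure G L)
  obtain ⟨n, hn⟩ := exists_pow_le_annihilator k G 𝒢 h0 L hfin
  haveI : IsNoetherian G (NQ (G := G) L) := (isFiniteLength_iff_isNoetherian_isArtinian.1 hfin).1
  haveI : Module.Finite G B :=
    Module.Finite.of_submodule_quotient (LinearMap.range (Algebra.linearMap G B))
  let S : ShortComplex (ModuleCat.{u} G) :=
    ShortComplex.mk (X₁ := ModuleCat.of G G) (X₂ := ModuleCat.of G B) (X₃ := ModuleCat.of G (NQ (G := G) L))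
      (ModuleCat.ofHom (Algebra.linearMap G B)) (ModuleCat.ofHom (LinearMap.range (Algebra.linearMap G B)).mkQ)
      (by ext; exact (Submodule.Quotient.mk_eq_zero _).2 (LinearMap.mem_range_self _ _))
  have hS : S.ShortExact :=
    { exact := by
        rw [ShortComplex.moduleCat_exact_iff]
        intro y hy
        exact (Submodule.Quotient.mk_eq_zero _).1 hy
      mono_f := (ModuleCat.mono_iff_injective _).2 fun a b e =>
        IsFractionRing.injective G L (congrArg Subtype.val e)
      epi_g := (ModuleCat.epi_iff_surjective _).2 fun z => Submodule.Quotient.mk_surjective _ z }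
  set I := (HomogeneousIdeal.irrelevant 𝒢).toIdeal
  have hB := fun i hi => subsingleton_H_normalization k G 𝒢 h0 L hdim (i := i) hi
  have h0B : Subsingleton ↑((localCohomology I 0).obj S.X₂) := hB 0 (by norm_num)
  have h1B : Subsingleton ↑((localCohomology I 1).obj S.X₂) := hB 1 (by norm_num)
  refine ⟨(torsionSubEquiv I _ hn).trans (LinearEquiv.ofBijective (LocH.delta hS 0) ⟨?_, ?_⟩)⟩
  · refine (injective_iff_map_eq_zero _).2 fun x hx => ?_
    obtain ⟨y, rfl⟩ := LocH.exact₃ hS 0 hx
    rw [Subsingleton.elim y 0, map_zero]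
  · intro x
    exact LocH.exact₁ hS 0 (Subsingleton.elim _ _)

end Groth.Agent.GrNormal
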